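import Groth.Agent.AffDefLib.Obstruction

/-! The map from the lifted relations to `B₀ ⊗ J` along a semismall extension. -/

set_option autoImplicit false
set_option backward.isDefEq.respectTransparency false
set_option backward.isDefEq.respectTransparency.types false
set_option linter.style.haveILetI false
universe u

open CategoryTheory AlgebraicGeometry TensorProduct

noncomputable section

namespace Groth.Agent.AffDefT2

open ArtFun CotT AffDefLib

variable {k : Type u} [Field k] {B₀ : Type u} [CommRing B₀] [Algebra k B₀]
variable {A A' : Art k k} (p : A' ⟶ A)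
variable {ι σ : Type u} (P : Algebra.Presentation k B₀ ι σ)

/-- `J · R'` -/
abbrev kerR : Ideal (LRing A' P) := (RingHom.ker p.toAlgHom).map (MvPolynomial.C : A' →+* LRing A' P)

/-- the structure map `R' → B₀` -/
abbrev bar : LRing A' P →+* B₀ := (algebraMap P.toExtension.Ring B₀).comp (red P)

variable (D : AlgDef k B₀ A)

/-- The characterising properties. -/
structure IsDelta (d : LRing A' P →+ Mod B₀ p) : Prop where
  mul_ker : ∀ x ∈ maxR A' P * kerD p D P, d x = 0
  C_mul : ∀ (j : ↥(RingHom.ker p.toAlgHom)) (g : LRing A' P),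
    d (MvPolynomial.C (j : A') * g) = bar P g ⊗ₜ j
  decomp : ∀ x ∈ kerD p D P, x ∈ maxR A' P → x ∈ maxR A' P * kerD p D P ⊔ kerR p P
  eq_zero : ∀ x ∈ kerD p D P, x ∈ maxR A' P → d x = 0 → x ∈ maxR A' P * kerD p D P

variable {p}

theorem mul_eq_res_smul (hp : Art.IsSemismallExt p) (c : A') (j : ↥(RingHom.ker p.toAlgHom)) :
    c * (j : A') = ((A'.res c • j : ↥(RingHom.ker p.toAlgHom)) : A') := by
  show c * (j : A') = A'.res c • (j : A')
  rw [Algebra.smul_def, ← sub_eq_zero, ← sub_mul]
  refine j_mul_mem hp _ ((Art.mem_maximalIdeal_iff A' _).2 ?_) _ j.2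
  rw [map_sub, AlgHom.commutes]
  exact sub_self _

theorem exists_isDelta (hp : Art.IsSemismallExt p) : ∃ d, IsDelta p P D d := by
  classical
  letI : Algebra A' D.carrier := ((algebraMap A D.carrier).comp p.toAlgHom.toRingHom).toAlgebra
  have hAB : ∀ (c : A') (b : D.carrier), c • b = p c • b := fun c b => by
    rw [Algebra.smul_def (p c) b]
    rfl
  haveI := free_of_flat_artinian (R := A) D.carrier
  let κ := Module.Free.ChooseBasisIndex A D.carrier
  let bas : Module.Basis κ A D.carrier := Module.Free.chooseBasis A D.carrier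
  choose e he using fun i => toD_surjective (D := D) P hp.1 (bas i)
  let π : (κ →₀ A') →ₗ[A'] D.carrier := Finsupp.linearCombination A' bas
  have hπ : ∀ v, π v = Finsupp.linearCombination A bas (v.mapRange (fun c => p c) (map_zero _)) := fun v => by
    change Finsupp.linearCombination A' (⇑bas) v = _
    rw [Finsupp.linearCombination_apply, Finsupp.linearCombination_apply,
      Finsupp.sum_mapRange_index (fun i => zero_smul A (bas i))]
    exact Finsupp.sum_congr fun i _ => hAB _ _
  let σl : LRing A' P →ₗ[A'] D.carrier :=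
    { toFun := toD p D P
      map_add' := map_add _
      map_smul' := fun c x => by
        rw [RingHom.id_apply, Algebra.smul_def, map_mul, Algebra.smul_def]
        exact congrArg (· * _) (toD_C P c) }
  have hπs : Function.Surjective π := fun b => by
    obtain ⟨v, rfl⟩ : ∃ v, Finsupp.linearCombination A bas v = b :=
      LinearMap.range_eq_top.1 (by rw [Finsupp.range_linearCombination, bas.span_eq]) b
    obtain ⟨v', rfl⟩ := Finsupp.mapRange_surjective (fun c => p c) (map_zero _) hp.1 v
    exact ⟨v', hπ v'⟩
  obtain ⟨L, hL⟩ := Module.projective_lifting_property π σl hπs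
  have hL' : ∀ x, π (L x) = toD p D P x := LinearMap.congr_fun hL
  let Φ : (κ →₀ A') →ₗ[A'] LRing A' P := Finsupp.linearCombination A' e
  have hΦ : ∀ v, toD p D P (Φ v) = π v := LinearMap.congr_fun
    (show σl ∘ₗ Φ = π from Finsupp.lhom_ext fun i a => by
      change σl (Finsupp.linearCombination A' e (Finsupp.single i a)) =
        Finsupp.linearCombination A' (⇑bas) (Finsupp.single i a)
      rw [Finsupp.linearCombination_single, Finsupp.linearCombination_single, map_smul]
      exact congrArg (a • ·) (he i))
  have hJ : ∀ x ∈ kerD p D P, ∀ i, L x i ∈ RingHom.ker p.toAlgHom := fun x hx i => by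
    have h1 := (hπ (L x)).symm.trans ((hL' x).trans hx)
    have h2 := bas.linearIndependent (h1.trans (map_zero _).symm)
    exact DFunLike.congr_fun h2 i
  obtain ⟨r, hr⟩ := LinearMap.exists_leftInverse_of_injective
    ((RingHom.ker p.toAlgHom).subtype.restrictScalars k) (LinearMap.ker_eq_bot.2 Subtype.val_injective)
  have hr' : ∀ j : ↥(RingHom.ker p.toAlgHom), r (j : A') = j := LinearMap.congr_fun hr
  let b₀ : κ → B₀ := fun i => D.q (bas i)
  let T : (κ →₀ A') →+ Mod B₀ p := Finsupp.liftAddHom fun i => (TensorProduct.mk k B₀ _ (b₀ i)).toAddMonoidHom.comp r.toAddMonoidHom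
  have hTs : ∀ v, T v = v.sum fun i c => b₀ i ⊗ₜ r c := fun v => Finsupp.liftAddHom_apply _ v
  have hq : ∀ v, D.q (π v) = v.sum fun i c => A'.res c • b₀ i := fun v => by
    change D.q (Finsupp.linearCombination A' (⇑bas) v) = _
    rw [Finsupp.linearCombination_apply, map_finsuppSum]
    refine Finsupp.sum_congr fun i _ => ?_
    rw [hAB, Algebra.smul_def, map_mul, D.q_algebraMap, Art.res_app, Algebra.smul_def]
  have hindep : ∀ v : κ →₀ A', D.q (π v) = 0 → ∀ i, A'.res (v i) = 0 := fun v hv i => by
    rw [← RingHom.mem_ker, D.ker_q] at hv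
    have h2 : π v ∈ IsLocalRing.maximalIdeal A • (⊤ : Submodule A D.carrier) := by
      rw [Ideal.smul_top_eq_map]
      exact hv
    have h3 : ∀ y ∈ IsLocalRing.maximalIdeal A • (⊤ : Submodule A D.carrier),
        bas.repr y i ∈ IsLocalRing.maximalIdeal A := fun y hy => by
      refine Submodule.smul_induction_on hy (fun c hc z _ => ?_) fun y z hy hz => ?_
      · rw [map_smul, Finsupp.smul_apply, smul_eq_mul]; exact Ideal.mul_mem_right _ _ hc
      · rw [map_add, Finsupp.add_apply]; exact add_mem hy hz
    have h5 := h3 _ h2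
    rw [hπ, bas.repr_linearCombination, Finsupp.mapRange_apply, Art.mem_maximalIdeal_iff, Art.res_app] at h5
    exact h5
  have hlin : LinearIndependent k b₀ := by
    rw [linearIndependent_iff]
    intro w hw
    have h0 : A'.res.toRingHom 0 = 0 := map_zero _
    let v : κ →₀ A' := w.mapRange (algebraMap k A') (map_zero _)
    refine Finsupp.ext fun i => ?_
    have h1 := hindep v (by
      rw [hq, Finsupp.sum_mapRange_index (fun i => by rw [map_zero, zero_smul])]
      refine Eq.trans (Finsupp.sum_congr fun i _ => ?_) ((Finsupp.linearCombination_apply k w).symm.trans hw)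
      rw [AlgHom.commutes]
      rfl) i
    rw [Finsupp.mapRange_apply, AlgHom.commutes] at h1
    exact h1
  let d : LRing A' P →+ Mod B₀ p := T.comp L.toAddMonoidHom
  have hd : ∀ x, d x = (L x).sum fun i c => b₀ i ⊗ₜ r c := fun x => hTs (L x)
  let Ψ : LRing A' P →ₗ[A'] LRing A' P := LinearMap.id - Φ ∘ₗ L
  have hΨK : ∀ y, Ψ y ∈ kerD p D P := fun y => by
    change toD p D P (y - Φ (L y)) = 0
    rw [map_sub, hΦ, hL', sub_self]
  have hdec : ∀ x, x ∈ maxR A' P → x - Φ (L x) ∈ maxR A' P * kerD p D P := fun x hx => by
    have hxm' : x ∈ IsLocalRing.maximalIdeal A' • (⊤ : Submodule A' (LRing A' P)) := by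
      rw [Ideal.smul_top_eq_map]
      exact hx
    show Ψ x ∈ _
    refine Submodule.smul_induction_on hxm' (fun c hc z _ => ?_) fun y z hy hz => ?_
    · rw [map_smul, Algebra.smul_def]
      exact Ideal.mul_mem_mul (Ideal.mem_map_of_mem _ hc) (hΨK z)
    · rw [map_add]; exact add_mem hy hz
  refine ⟨d, ⟨fun x hx => ?_, fun j g => ?_, fun x hx hx' => ?_, fun x hx hx' h0 => ?_⟩⟩
  · have hL0 : L x = 0 := by
      induction hx using Submodule.mul_induction_on' with
      | mem_mul_mem a ha b hb =>
        revert b
        induction ha using Submodule.span_induction with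
        | mem a ha =>
          obtain ⟨c, hc, rfl⟩ := ha
          intro b hb
          rw [← Algebra.smul_def, map_smul]
          refine Finsupp.ext fun i => ?_
          rw [Finsupp.smul_apply, smul_eq_mul, Finsupp.zero_apply]
          exact j_mul_mem hp c hc _ (hJ b hb i)
        | zero => intro b _; rw [zero_mul, map_zero]
        | add a a' _ _ h h' => intro b hb; rw [add_mul, map_add, h b hb, h' b hb, add_zero]
        | smul r a _ h =>
          intro b hb
          rw [smul_eq_mul, mul_comm r a, mul_assoc]
          exact h _ (Ideal.mul_mem_left _ r hb)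
      | add a _ b _ ha hb => rw [map_add, ha, hb, add_zero]
    rw [hd, hL0, Finsupp.sum_zero_index]
  · rw [hd, show (MvPolynomial.C (j : A') : LRing A' P) * g = (j : A') • g from (Algebra.smul_def _ _).symm,
      map_smul, Finsupp.sum_smul_index (fun i => by rw [map_zero, tmul_zero]),
      show bar P g = D.q (π (L g)) by rw [hL', q_toD]; rfl, hq, Finsupp.sum, Finsupp.sum, sum_tmul]
    refine Finset.sum_congr rfl fun i _ => ?_
    rw [mul_comm (j : A'), mul_eq_res_smul hp, hr', smul_tmul]
  · rw [← sub_add_cancel x (Φ (L x))]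
    refine Submodule.add_mem_sup (hdec x hx') ?_
    change Finsupp.linearCombination A' e (L x) ∈ _
    rw [Finsupp.linearCombination_apply]
    refine Submodule.sum_mem _ fun i _ => ?_
    beta_reduce
    rw [Algebra.smul_def]
    exact Ideal.mul_mem_right _ _ (Ideal.mem_map_of_mem _ (hJ x hx i))
  · have hz : L x = 0 := Finsupp.ext fun i => by
      have hall : ∀ i, r (L x i) = 0 := fun i => by
        rw [← Module.forall_dual_apply_eq_zero_iff k]
        intro φ
        let w : κ →₀ k := (L x).mapRange (fun c => φ (r c)) (by rw [map_zero, map_zero])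
        have h2 : Finsupp.linearCombination k b₀ w = 0 := by
          have h3 := congrArg (fun z => TensorProduct.rid k B₀ (LinearMap.lTensor B₀ φ z)) ((hd x).symm.trans h0)
          simp only [map_finsuppSum, map_zero, LinearMap.lTensor_tmul, TensorProduct.rid_tmul] at h3
          rw [Finsupp.linearCombination_apply, Finsupp.sum_mapRange_index (fun i => zero_smul k (b₀ i))]
          exact h3
        exact DFunLike.congr_fun (linearIndependent_iff.1 hlin w h2) i
      exact (congrArg Subtype.val (hr' ⟨L x i, hJ x hx i⟩)).symm.trans (congrArg Subtype.val (hall i))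
    have h4 := hdec x hx'
    rwa [hz, map_zero, sub_zero] at h4

end Groth.Agent.AffDefT2
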