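import Groth.Agent.AffDefT2.Delta
import Groth.Agent.ArtFunLib.HilbObs

/-! The obstruction homomorphism and its class in `T² ⊗ J`. -/

set_option autoImplicit false
set_option backward.isDefEq.respectTransparency false
set_option backward.isDefEq.respectTransparency.types false
set_option linter.style.haveILetI false
universe u

open CategoryTheory AlgebraicGeometry TensorProduct

noncomputable section

namespace Groth.Agent.AffDefT2

open ArtFun CotT AffDefLib

set_option maxHeartbeats 1000000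
variable {k : Type u} [Field k] {B₀ : Type u} [CommRing B₀] [Algebra k B₀]
variable {A A' : Art k k} {p : A' ⟶ A}
variable {ι σ : Type u} {P : Algebra.Presentation k B₀ ι σ} {D : AlgDef k B₀ A}

theorem bar_eq (x : LRing A' P) : bar P x = D.q (toD p D P x) := (q_toD P x).symm

theorem bar_eq_zero {x : LRing A' P} (hx : x ∈ maxR A' P) : bar P x = 0 := by
  rw [← ker_red, RingHom.mem_ker] at hx
  rw [RingHom.comp_apply, hx, map_zero]

theorem kerR_le_kerD : kerR p P ≤ kerD p D P := Ideal.map_le_iff_le_comap.2 fun j hj => by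
  rw [Ideal.mem_comap, RingHom.mem_ker, toD_C, show p j = 0 from hj, map_zero]

theorem kerR_le_maxR : kerR p P ≤ maxR A' P := Ideal.map_mono (kerP_le p)

theorem kerR_induction {motive : LRing A' P → Prop} (h0 : motive 0)
    (hadd : ∀ x y, motive x → motive y → motive (x + y))
    (hmul : ∀ (j : ↥(RingHom.ker p.toAlgHom)) (g : LRing A' P), motive (MvPolynomial.C (j : A') * g))
    {x : LRing A' P} (hx : x ∈ kerR p P) : motive x := by
  suffices ∀ a, motive (a * x) by simpa using this 1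
  induction hx using Submodule.span_induction with
  | mem w hw =>
    obtain ⟨c, hc, rfl⟩ := hw
    exact fun a => by rw [mul_comm]; exact hmul ⟨c, hc⟩ a
  | zero => exact fun a => by rw [mul_zero]; exact h0
  | add a b _ _ ha hb => exact fun c => by rw [mul_add]; exact hadd _ _ (ha c) (hb c)
  | smul r w _ hw => exact fun a => by rw [smul_eq_mul, ← mul_assoc]; exact hw _

variable {d : LRing A' P →+ Mod B₀ p}

namespace IsDelta

variable (hd : IsDelta p P D d)
include hd

theorem mul_smul {x : LRing A' P} (hx : x ∈ kerD p D P) (hx' : x ∈ maxR A' P) (a : LRing A' P) :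
    d (a * x) = bar P a • d x := by
  obtain ⟨y, hy, z, hz, rfl⟩ := Submodule.mem_sup.1 (hd.decomp x hx hx')
  rw [mul_add, map_add, map_add, hd.mul_ker y hy, hd.mul_ker _ (Ideal.mul_mem_left _ a hy), zero_add, zero_add]
  refine kerR_induction (p := p) (motive := fun z => d (a * z) = bar P a • d z) ?_ ?_ ?_ hz
  · rw [mul_zero, map_zero, smul_zero]
  · intro u v hu hv
    rw [mul_add, map_add, map_add, hu, hv, smul_add]
  · intro j g
    rw [mul_left_comm, hd.C_mul, hd.C_mul, map_mul, smul_tmul', smul_eq_mul]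

theorem exists_kerR (m : Mod B₀ p) : ∃ h ∈ kerR p P, d h = m := by
  induction m using TensorProduct.induction_on with
  | zero => exact ⟨0, zero_mem _, map_zero _⟩
  | add a b ha hb =>
    obtain ⟨x, hx, rfl⟩ := ha
    obtain ⟨y, hy, rfl⟩ := hb
    exact ⟨x + y, add_mem hx hy, map_add _ _ _⟩
  | tmul b j =>
    obtain ⟨r₀, rfl⟩ := CotTLib.algebraMap_surjective P b
    obtain ⟨g, rfl⟩ := red_surjective (C' := A') P r₀
    exact ⟨MvPolynomial.C (j : A') * g, Ideal.mul_mem_right _ _ (Ideal.mem_map_of_mem _ j.2), hd.C_mul j g⟩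

end IsDelta

section Fin

variable [Fintype σ]

variable (p D P) in
/-- lifted relations -/
def IsLifts (F : σ → LRing A' P) : Prop := (∀ s, toD p D P (F s) = 0) ∧ ∀ s, red P (F s) = rel P s

theorem exists_lifts (hp : Art.IsSemismallExt p) : ∃ F, IsLifts p P D F := by
  choose F hF hFred using fun s => exists_red_eq (p := p) (D := D) P hp
    ⟨rel P s, P.relation_mem_ker s⟩
  exact ⟨F, hF, hFred⟩

theorem IsLifts.sum_mem_kerD {F : σ → LRing A' P} (hF : IsLifts p P D F) (Q : σ → LRing A' P) :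
    ∑ s, Q s * F s ∈ kerD p D P :=
  Ideal.sum_mem _ fun s _ => Ideal.mul_mem_left _ _ (hF.1 s)

theorem IsLifts.sum_mem_maxR {F : σ → LRing A' P} (hF : IsLifts p P D F) {Q : σ → LRing A' P} {q : relKer P}
    (hQ : ∀ s, red P (Q s) = (q : relMod P) s) : ∑ s, Q s * F s ∈ maxR A' P := by
  rw [← ker_red, RingHom.mem_ker, map_sum]
  have hq : jmap P (q : relMod P) = 0 := q.2
  rw [jmap_eq_sum] at hq
  exact Eq.trans (Finset.sum_congr rfl fun s _ => by rw [map_mul, hQ, hF.2]) hq

variable (d) in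
/-- `δ` is the obstruction homomorphism of the lifts `F`. -/
def IsObsHom (F : σ → LRing A' P) (δ : L2 P →ₗ[B₀] Mod B₀ p) : Prop :=
  ∀ (q : relKer P) (Q : σ → LRing A' P), (∀ s, red P (Q s) = (q : relMod P) s) →
    δ (CotTLib.cl P q) = d (∑ s, Q s * F s)

theorem exists_obsHom (hd : IsDelta p P D d) {F : σ → LRing A' P} (hF : IsLifts p P D F) :
    ∃ δ, IsObsHom d F δ := by
  have huniq : ∀ Q Q' : σ → LRing A' P, (∀ s, red P (Q s) = red P (Q' s)) →
      d (∑ s, Q s * F s) = d (∑ s, Q' s * F s) := fun Q Q' hQ => by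
    rw [← sub_eq_zero, ← map_sub, ← Finset.sum_sub_distrib]
    refine hd.mul_ker _ (Ideal.sum_mem _ fun s _ => ?_)
    rw [← sub_mul]
    exact Ideal.mul_mem_mul (by rw [← ker_red, RingHom.mem_ker, map_sub, hQ, sub_self]) (hF.1 s)
  choose Q hQ using fun (q : relKer P) s => red_surjective (C' := A') P ((q : relMod P) s)
  let o : relKer P →ₗ[P.toExtension.Ring] Mod B₀ p :=
    { toFun := fun q => d (∑ s, Q q s * F s)
      map_add' := fun q q' => by
        refine (huniq (Q (q + q')) (fun s => Q q s + Q q' s) fun s => ?_).trans ?_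
        · rw [hQ, map_add, hQ, hQ]; rfl
        · simp only [add_mul, Finset.sum_add_distrib, map_add]
      map_smul' := fun r q => by
        obtain ⟨r', rfl⟩ := red_surjective (C' := A') P r
        refine (huniq (Q (red P r' • q)) (fun s => r' * Q q s) fun s => ?_).trans ?_
        · rw [hQ, map_mul, hQ]; rfl
        · simp only [mul_assoc, ← Finset.mul_sum]
          rw [hd.mul_smul (hF.sum_mem_kerD _) (hF.sum_mem_maxR (hQ q)), RingHom.id_apply]
          exact algebraMap_smul B₀ (red P r') _ }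
  have htriv : ∀ t : trivRelKer P, o t.1 = 0 := by
    suffices ∀ y ∈ trivRel P, ∀ hy : y ∈ relKer P, o ⟨y, hy⟩ = 0 from fun t => this _ t.2 _
    intro y hy
    induction hy using Submodule.span_induction with
    | mem y hy =>
      obtain ⟨a, b, rfl⟩ := hy
      intro hy'
      choose aL haL using fun s => red_surjective (C' := A') P (a s)
      choose bL hbL using fun s => red_surjective (C' := A') P (b s)
      let Ja := ∑ s, aL s * F s
      let Jb := ∑ s, bL s * F s
      have hred : ∀ (v : relMod P) (w : σ → LRing A' P), (∀ s, red P (w s) = v s) →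
          red P (∑ s, w s * F s) = jmap P v := fun v w hw => by
        rw [jmap_eq_sum, map_sum]
        exact Finset.sum_congr rfl fun s _ => by rw [map_mul, hw, hF.2]
      refine (huniq (Q ⟨_, hy'⟩) (fun s => Ja * bL s - Jb * aL s) fun s => ?_).trans ?_
      · rw [hQ, map_sub, map_mul, map_mul, hbL, haL, hred a aL haL, hred b bL hbL]
        rfl
      · simp only [sub_mul, mul_assoc, Finset.sum_sub_distrib, ← Finset.mul_sum]
        exact (congrArg d (sub_eq_zero.2 (mul_comm Ja Jb))).trans (map_zero _)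
    | zero => intro h; exact map_zero o
    | add y z hy hz ihy ihz =>
      intro h
      have := map_add o ⟨y, trivRel_le_relKer P hy⟩ ⟨z, trivRel_le_relKer P hz⟩
      rw [ihy, ihz, add_zero] at this
      exact this
    | smul r y hy ih =>
      intro h
      have := map_smul o r ⟨y, trivRel_le_relKer P hy⟩
      rw [ih, smul_zero] at this
      exact this
  let δ₁ := LinearMap.liftBaseChange B₀ o
  have hδ : LinearMap.range ((trivRelKer P).subtype.baseChange B₀) ≤ LinearMap.ker δ₁ := by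
    rw [LinearMap.range_le_ker_iff]
    refine TensorProduct.AlgebraTensorModule.ext fun b t => ?_
    rw [LinearMap.comp_apply, LinearMap.baseChange_tmul, LinearMap.liftBaseChange_tmul,
      Submodule.coe_subtype, htriv, smul_zero, LinearMap.zero_apply]
  refine ⟨Submodule.liftQ _ δ₁ hδ, fun q Q' hQ' => ?_⟩
  rw [CotTLib.cl_apply, Submodule.liftQ_apply, LinearMap.liftBaseChange_tmul, one_smul]
  exact huniq _ _ fun s => by rw [hQ, hQ']

theorem obsHom_unique {F : σ → LRing A' P} {δ δ' : L2 P →ₗ[B₀] Mod B₀ p} (h : IsObsHom d F δ)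
    (h' : IsObsHom d F δ') : δ = δ' := by
  refine LinearMap.ext fun z => ?_
  obtain ⟨q, rfl⟩ := CotTLib.cl_surjective P z
  choose Q hQ using fun s => red_surjective (C' := A') P ((q : relMod P) s)
  rw [h q Q hQ, h' q Q hQ]

theorem map_toL1 {M : Type u} [AddCommGroup M] [Module B₀ M] (ψ : L1 P →ₗ[B₀] M) (q : relMod P) :
    ψ (CotTLib.toL1 P q) = ∑ s, algebraMap P.toExtension.Ring B₀ (q s) • ψ (L1basis P s) := by
  classical
  have e1 : CotTLib.toL1 P q = ∑ s, algebraMap P.toExtension.Ring B₀ (q s) • L1basis P s := by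
    conv_lhs => rw [← Finsupp.univ_sum_single q, map_sum]
    exact Finset.sum_congr rfl fun s _ => CotTLib.toL1_single P s _
  rw [e1, map_sum]
  exact Finset.sum_congr rfl fun s _ => map_smul ψ _ _

/-- Changing the lifts changes the homomorphism by a coboundary. -/
theorem obsHom_sub (hd : IsDelta p P D d) {F : σ → LRing A' P} {h : σ → LRing A' P}
    (hh : ∀ s, h s ∈ kerD p D P) (hh' : ∀ s, h s ∈ maxR A' P) {δ : L2 P →ₗ[B₀] Mod B₀ p}
    (hδ : IsObsHom d F δ) {ψ : L1 P →ₗ[B₀] Mod B₀ p} (hψ : ∀ s, ψ (L1basis P s) = d (h s)) :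
    IsObsHom d (fun s => F s - h s) (δ - ψ ∘ₗ d2 P) := by
  intro q Q hQ
  rw [LinearMap.sub_apply, LinearMap.comp_apply, CotTLib.d2_cl, map_toL1, hδ q Q hQ]
  simp only [mul_sub, Finset.sum_sub_distrib, map_sub, map_sum]
  congr 1
  refine Finset.sum_congr rfl fun s _ => ?_
  rw [hd.mul_smul (hh s) (hh' s), hψ, RingHom.comp_apply, hQ]

end Fin

section Cls

variable (B₀) in
/-- evaluation of the coefficient -/
def ev (l : ↥(RingHom.ker p.toAlgHom) →ₗ[k] k) : Mod B₀ p →ₗ[B₀] B₀ :=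
  (TensorProduct.AlgebraTensorModule.rid k B₀ B₀).toLinearMap ∘ₗ
    TensorProduct.AlgebraTensorModule.map (LinearMap.id : B₀ →ₗ[B₀] B₀) l

theorem ev_tmul (l : ↥(RingHom.ker p.toAlgHom) →ₗ[k] k) (b : B₀) (j : ↥(RingHom.ker p.toAlgHom)) :
    ev B₀ l (b ⊗ₜ j) = l j • b := by
  simp [ev]

variable (P) in
/-- pairing with a functional -/
def pair (l : ↥(RingHom.ker p.toAlgHom) →ₗ[k] k) : T2 P B₀ ⊗[k] ↥(RingHom.ker p.toAlgHom) →ₗ[k] T2 P B₀ :=
  (TensorProduct.rid k (T2 P B₀)).toLinearMap ∘ₗ LinearMap.lTensor (T2 P B₀) l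

theorem pair_tmul (l : ↥(RingHom.ker p.toAlgHom) →ₗ[k] k) (t : T2 P B₀) (j : ↥(RingHom.ker p.toAlgHom)) :
    pair P l (t ⊗ₜ j) = l j • t := by
  simp [pair]

variable (hp : Art.IsSemismallExt p)

/-- a basis of the kernel -/
def kerBasis : Module.Basis (Fin (Module.finrank k ↥(RingHom.ker p.toAlgHom))) k ↥(RingHom.ker p.toAlgHom) :=
  haveI := ArtFunLib.HilbObs.finite_ker hp
  Module.finBasis k ↥(RingHom.ker p.toAlgHom)

/-- the class of a homomorphism in `T² ⊗ J` -/
def cls (δ : L2 P →ₗ[B₀] Mod B₀ p) : T2 P B₀ ⊗[k] ↥(RingHom.ker p.toAlgHom) :=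
  ∑ i, toT2 P B₀ (ev B₀ ((kerBasis hp).coord i) ∘ₗ δ) ⊗ₜ kerBasis hp i

include hp in
theorem expand {V : Type u} [AddCommGroup V] [Module k V] (t : V ⊗[k] ↥(RingHom.ker p.toAlgHom)) :
    t = ∑ i, TensorProduct.rid k V (LinearMap.lTensor V ((kerBasis hp).coord i) t) ⊗ₜ kerBasis hp i := by
  induction t using TensorProduct.induction_on with
  | zero => simp
  | tmul v j =>
    simp only [LinearMap.lTensor_tmul, TensorProduct.rid_tmul, smul_tmul]
    conv_lhs => rw [← (kerBasis hp).sum_repr j, TensorProduct.tmul_sum]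
    exact Finset.sum_congr rfl fun i _ => rfl
  | add x y hx hy =>
    simp only [map_add, add_tmul, Finset.sum_add_distrib]
    rw [← hx, ← hy]

omit hp in
theorem rid_eq_ev (l : ↥(RingHom.ker p.toAlgHom) →ₗ[k] k) (z : Mod B₀ p) :
    TensorProduct.rid k B₀ (LinearMap.lTensor B₀ l z) = ev B₀ l z := by
  induction z using TensorProduct.induction_on with
  | zero => simp
  | tmul b j => rw [ev_tmul, LinearMap.lTensor_tmul, TensorProduct.rid_tmul]
  | add x y hx hy => simp only [map_add, hx, hy]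

theorem ev_eq (l : ↥(RingHom.ker p.toAlgHom) →ₗ[k] k) (z : Mod B₀ p) :
    ev B₀ l z = ∑ i, l (kerBasis hp i) • ev B₀ ((kerBasis hp).coord i) z := by
  conv_lhs => rw [expand hp z, map_sum]
  refine Finset.sum_congr rfl fun i _ => ?_
  rw [ev_tmul, rid_eq_ev]

omit hp in
theorem toT2_smul (c : k) (φ : L2 P →ₗ[B₀] B₀) : toT2 P B₀ (c • φ) = c • toT2 P B₀ φ :=
  Submodule.Quotient.mk_smul _ c φ

theorem pair_cls (δ : L2 P →ₗ[B₀] Mod B₀ p) (l : ↥(RingHom.ker p.toAlgHom) →ₗ[k] k) :
    pair P l (cls hp δ) = toT2 P B₀ (ev B₀ l ∘ₗ δ) := by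
  let φ : Fin (Module.finrank k ↥(RingHom.ker p.toAlgHom)) → (L2 P →ₗ[B₀] B₀) :=
    fun i => ev B₀ ((kerBasis hp).coord i) ∘ₗ δ
  have h1 : ev B₀ l ∘ₗ δ = ∑ i, l (kerBasis hp i) • φ i := LinearMap.ext fun z => by
    rw [LinearMap.comp_apply, ev_eq hp, LinearMap.sum_apply]
    exact Finset.sum_congr rfl fun i _ => rfl
  have h2 : pair P l (cls hp δ) = ∑ i, l (kerBasis hp i) • toT2 P B₀ (φ i) := by
    rw [cls, map_sum]
    exact Finset.sum_congr rfl fun i _ => pair_tmul l _ _
  rw [h1, h2, map_sum]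
  exact Finset.sum_congr rfl fun i _ => (toT2_smul _ _).symm

include hp in
theorem ext_pair {t t' : T2 P B₀ ⊗[k] ↥(RingHom.ker p.toAlgHom)} (h : ∀ l, pair P l t = pair P l t') : t = t' := by
  rw [expand hp t, expand hp t']
  exact Finset.sum_congr rfl fun i _ => congrArg (· ⊗ₜ _) (h _)

theorem cls_eq_zero_iff (δ : L2 P →ₗ[B₀] Mod B₀ p) :
    cls hp δ = 0 ↔ ∃ ψ : L1 P →ₗ[B₀] Mod B₀ p, δ = ψ ∘ₗ d2 P := by
  constructor
  · intro h
    have h1 : ∀ i, ∃ ψ : L1 P →ₗ[B₀] B₀, ev B₀ ((kerBasis hp).coord i) ∘ₗ δ = ψ ∘ₗ d2 P := fun i => by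
      have h2 := (pair_cls hp δ ((kerBasis hp).coord i)).symm
      rw [h, map_zero, toT2, Submodule.mkQ_apply, Submodule.Quotient.mk_eq_zero] at h2
      obtain ⟨ψ, hψ⟩ := h2
      exact ⟨ψ, hψ.symm⟩
    choose ψ hψ using h1
    refine ⟨∑ i, (((TensorProduct.AlgebraTensorModule.mk k B₀ B₀ _).flip (kerBasis hp i)) ∘ₗ ψ i),
      LinearMap.ext fun z => ?_⟩
    rw [LinearMap.comp_apply, LinearMap.sum_apply]
    refine (expand hp (δ z)).trans (Finset.sum_congr rfl fun i _ => ?_)
    exact congrArg (· ⊗ₜ[k] kerBasis hp i) ((rid_eq_ev _ _).trans (LinearMap.congr_fun (hψ i) z))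
  · rintro ⟨ψ, rfl⟩
    refine ext_pair hp fun l => ?_
    rw [pair_cls, map_zero, toT2, Submodule.mkQ_apply, Submodule.Quotient.mk_eq_zero]
    exact ⟨ev B₀ l ∘ₗ ψ, rfl⟩

theorem cls_sub (δ : L2 P →ₗ[B₀] Mod B₀ p) (ψ : L1 P →ₗ[B₀] Mod B₀ p) :
    cls hp (δ - ψ ∘ₗ d2 P) = cls hp δ := by
  refine ext_pair hp fun l => ?_
  rw [pair_cls, pair_cls, LinearMap.comp_sub, map_sub, sub_eq_self, toT2, Submodule.mkQ_apply,
    Submodule.Quotient.mk_eq_zero]
  exact ⟨ev B₀ l ∘ₗ ψ, rfl⟩

end Cls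

end Groth.Agent.AffDefT2
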