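import Groth.Agent.AffDefT2.Obs
import Groth.Agent.DefGlueLib.Schless
import Groth.Agent.HilbRepTangent.Bounds

/-! Dimension of a hull of the deformations of an affine scheme. -/

set_option autoImplicit false
set_option backward.isDefEq.respectTransparency false
set_option backward.isDefEq.respectTransparency.types false
set_option linter.style.haveILetI false
set_option maxHeartbeats 1000000
universe u v

open CategoryTheory AlgebraicGeometry TensorProduct IsLocalRing

noncomputable section

namespace Groth.Agent.AffDefT2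

open ArtFun CotT AffDefLib

variable {k : Type u} [Field k]

/-- An obstruction theory pulls back along a versal family. -/
theorem hasObsTheory_of_isVersal {F : Art k k ⥤ Type v} {R : Type u} [CommRing R] [Algebra k R] {resR : R →ₐ[k] k}
    (ξ : Family R resR F) (hξ : IsVersal ξ) {V : Type u} [AddCommGroup V] [Module k V]
    (h : HasObsTheory F V) : HasObsTheory (hR R resR) V := by
  obtain ⟨T⟩ := h
  exact ⟨{ obs := fun {C' C} p hp φ => T.obs p hp (ξ.app C φ)
           obs_eq_zero_iff := fun {C' C} p hp φ => by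
             rw [T.obs_eq_zero_iff]
             constructor
             · rintro ⟨y, hy⟩
               obtain ⟨ψ, h1, -⟩ := hξ p hp.1 φ y hy
               exact ⟨ψ, h1⟩
             · rintro ⟨ψ, hψ⟩
               exact ⟨ξ.app C' ψ, (ξ.natural p ψ).symm.trans (congrArg (ξ.app C) hψ)⟩
           obs_quot := fun {C' C} p hp K hK hKJ hq φ => T.obs_quot p hp K hK hKJ hq (ξ.app C φ) }⟩

theorem surjective_app {F : Art k k ⥤ Type v} (h0 : H0 F) {R : Type u} [CommRing R] [Algebra k R]
    {resR : R →ₐ[k] k} (ξ : Family R resR F) (hξ : IsVersal ξ) (A : Art k k) :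
    Function.Surjective (ξ.app A) := fun y => by
  let φ : HomSet R resR (Art.base k k) := ⟨resR, AlgHom.id_comp resR⟩
  obtain ⟨ψ, -, h2⟩ := hξ (Art.toBase A) (fun c => A.res_surjective c) φ y (@Subsingleton.elim _ h0.2 _ _)
  exact ⟨ψ, h2⟩

theorem isSmoothFunctor_iff {F : Art k k ⥤ Type v} (h0 : H0 F) {R : Type u} [CommRing R] [Algebra k R]
    {resR : R →ₐ[k] k} (ξ : Family R resR F) (hξ : IsVersal ξ) :
    IsSmoothFunctor F ↔ IsSmoothFunctor (hR R resR) := by
  constructor
  · intro hF B A μ hμ φ
    obtain ⟨y, hy⟩ := hF μ hμ (ξ.app A φ)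
    obtain ⟨ψ, h1, -⟩ := hξ μ hμ φ y hy
    exact ⟨ψ, h1⟩
  · intro hR B A μ hμ x
    obtain ⟨φ, rfl⟩ := surjective_app h0 ξ hξ A x
    obtain ⟨ψ, hψ⟩ := hR μ hμ φ
    exact ⟨ξ.app B ψ, (ξ.natural μ ψ).symm.trans (congrArg (ξ.app A) hψ)⟩

variable {B₀ : Type u} [CommRing B₀] [Algebra k B₀] {ι σ : Type u} (P : Algebra.Presentation k B₀ ι σ)

/-- The embedding dimension of the hull is the dimension of `T¹`. -/
theorem finrank_cotangent_hull (H : Hull (defFunctor (Λ := k) (Spec (CommRingCat.of B₀)) (str k B₀))) :
    Module.finrank (ResidueField H.ring.carrier) (CotangentSpace H.ring.carrier) =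
      Module.finrank k (T1 P B₀) := by
  choose c hc using exists_class (k := k) (B₀ := B₀) (P := P)
  have hbij : Function.Bijective c := ⟨fun u v h => class_inj (hc u) (h ▸ hc v), fun t => by
    obtain ⟨u, hu⟩ := exists_of_class t
    exact ⟨u, class_unique (hc u) hu⟩⟩
  refine HilbRepTangent.finrank_cotangent H.ring.res (fun φ => c (H.family.app _ φ))
    (hbij.comp H.miniversal.2) (fun z => ?_) fun a φ => ?_
  · rw [H.family.natural Art.plus z, H.family.natural Art.pr₁ z, H.family.natural Art.pr₂ z]
    exact class_unique (hc _) (class_add _ (hc _) (hc _))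
  · rw [H.family.natural (Art.scale a) φ]
    exact class_unique (hc _) (class_smul' (hc _) a)

end Groth.Agent.AffDefT2
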