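import Groth.Agent.AffDefT2.Hom
import Groth.Agent.AffDefLib.Torsor2

/-! Vanishing of the obstruction class is equivalent to the existence of a lift. -/

set_option autoImplicit false
set_option backward.isDefEq.respectTransparency false
set_option backward.isDefEq.respectTransparency.types false
set_option linter.style.haveILetI false
set_option maxHeartbeats 1000000
universe u

open CategoryTheory AlgebraicGeometry TensorProduct

noncomputable section

namespace Groth.Agent.AffDefT2

open ArtFun CotT AffDefLib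

variable {k : Type u} [Field k] {B₀ : Type u} [CommRing B₀] [Algebra k B₀]
variable {A A' : Art k k} {p : A' ⟶ A}
variable {ι σ : Type u} [Fintype σ] {P : Algebra.Presentation k B₀ ι σ} {D : AlgDef k B₀ A}
variable {d : LRing A' P →+ Mod B₀ p}

theorem exists_coboundary_of_ext (hp : Art.IsSemismallExt p) (hd : IsDelta p P D d) (X : Ext' p D)
    {F : σ → LRing A' P} (hF : IsLifts p P D F) {δ : L2 P →ₗ[B₀] Mod B₀ p} (hδ : IsObsHom d F δ) :
    ∃ ψ : L1 P →ₗ[B₀] Mod B₀ p, δ = ψ ∘ₗ d2 P := by
  obtain ⟨Ψ, hΨ⟩ := exists_lift' P X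
  choose z hz using fun s => X.exists_μ_eq hp ((hΨ (F s)).trans (hF.1 s))
  have hbar : ∀ r, X.D'.q (Ψ r) = bar P r := fun r => hΨ.q_eq P r
  have hkey : ∀ x ∈ kerD p D P, x ∈ maxR A' P → X.μ hp (d x) = Ψ x := by
    intro x hx hx'
    obtain ⟨y, hy, w, hw, rfl⟩ := Submodule.mem_sup.1 (hd.decomp x hx hx')
    rw [map_add, map_add, map_add, hd.mul_ker y hy, map_zero, zero_add]
    have hy0 : Ψ y = 0 := by
      clear hx hx'
      induction hy using Submodule.mul_induction_on' with
      | mem_mul_mem a ha b hb =>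
        obtain ⟨v, hv⟩ := X.exists_μ_eq hp ((hΨ b).trans hb)
        rw [map_mul, ← hv, X.mul_μ, hbar, bar_eq_zero ha, zero_smul, map_zero]
      | add a _ b _ ha hb => rw [map_add, ha, hb, add_zero]
    rw [hy0, zero_add]
    refine kerR_induction (p := p) (motive := fun w => X.μ hp (d w) = Ψ w) ?_ ?_ ?_ hw
    · rw [map_zero, map_zero, map_zero]
    · intro a b ha hb
      rw [map_add, map_add, map_add, ha, hb]
    · intro j g
      rw [hd.C_mul, ← hbar, X.μ_tmul, ψ_C_mul]
  refine ⟨(L1basis P).constr B₀ z, LinearMap.ext fun t => ?_⟩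
  obtain ⟨q, rfl⟩ := CotTLib.cl_surjective P t
  choose Q hQ using fun s => red_surjective (C' := A') P ((q : relMod P) s)
  refine X.μ_injective hp ?_
  rw [LinearMap.comp_apply, CotTLib.d2_cl, map_toL1, hδ q Q hQ,
    hkey _ (hF.sum_mem_kerD Q) (hF.sum_mem_maxR hQ), map_sum, map_sum]
  refine Finset.sum_congr rfl fun s _ => ?_
  rw [map_mul, ← hz, X.mul_μ, hbar, Module.Basis.constr_basis, RingHom.comp_apply, hQ]

theorem kerR_mul_maxR (hp : Art.IsSemismallExt p) : maxR A' P * kerR p P = ⊥ := by
  show (IsLocalRing.maximalIdeal A').map (MvPolynomial.C : A' →+* LRing A' P) * _ = ⊥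
  rw [← Ideal.map_mul, hp.2, Ideal.map_bot]

theorem kerD_le' (hd : IsDelta p P D d) {F : σ → LRing A' P} (hF : IsLifts p P D F) :
    kerD p D P ≤ Ideal.span (Set.range F) ⊔ kerR p P := by
  have hS : Ideal.span (Set.range F) ≤ kerD p D P := Ideal.span_le.2 (by rintro _ ⟨s, rfl⟩; exact hF.1 s)
  obtain ⟨n, hn⟩ := maxR_pow_eq_bot (A' := A') P
  refine le_of_le_sup_mul (maxR A' P) _ _ (n := n) ?_ fun x hx => ?_
  · rw [hn, Ideal.bot_mul]
    exact bot_le
  · have h1 : red P x ∈ LinearMap.range (jmap P) := by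
      rw [range_jmap]
      exact red_mem_ker P hx
    obtain ⟨a, ha⟩ := h1
    choose aL haL using fun s => red_surjective (C' := A') P (a s)
    have h2 : ∑ s, aL s * F s ∈ Ideal.span (Set.range F) :=
      Ideal.sum_mem _ fun s _ => Ideal.mul_mem_left _ _ (Ideal.subset_span ⟨s, rfl⟩)
    have h3 : x - ∑ s, aL s * F s ∈ maxR A' P := by
      rw [← ker_red, RingHom.mem_ker, map_sub, sub_eq_zero, ← ha, jmap_eq_sum, map_sum]
      exact Finset.sum_congr rfl fun s _ => by rw [map_mul, haL, hF.2]
    obtain ⟨y, hy, w, hw, hyw⟩ := Submodule.mem_sup.1 (hd.decomp _ (sub_mem hx (hS h2)) h3)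
    rw [← add_sub_cancel (∑ s, aL s * F s) x, ← hyw, add_left_comm, add_comm]
    exact Submodule.add_mem_sup (add_mem (Submodule.mem_sup_left h2) (Submodule.mem_sup_right hw)) hy

omit [Fintype σ] in
theorem linearIndependent_q (D : AlgDef k B₀ A) {κ : Type u} (bas : Module.Basis κ A D.carrier) :
    LinearIndependent k fun i => D.q (bas i) := by
  classical
  refine linearIndependent_iff.2 fun w hw => Finsupp.ext fun i => ?_
  let v : κ →₀ A := w.mapRange (algebraMap k A) (map_zero _)
  have hv : Finsupp.linearCombination A bas v ∈ RingHom.ker D.q := by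
    rw [RingHom.mem_ker, Finsupp.linearCombination_apply, map_finsuppSum,
      Finsupp.sum_mapRange_index (fun i => by rw [zero_smul, map_zero])]
    refine Eq.trans (Finsupp.sum_congr fun i _ => ?_) ((Finsupp.linearCombination_apply k w).symm.trans hw)
    rw [Algebra.smul_def, map_mul, D.q_algebraMap, AlgHom.commutes, Algebra.smul_def]
    rfl
  rw [D.ker_q] at hv
  have h2 : Finsupp.linearCombination A bas v ∈ IsLocalRing.maximalIdeal A • (⊤ : Submodule A D.carrier) := by
    rw [Ideal.smul_top_eq_map]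
    exact hv
  have h3 : ∀ y ∈ IsLocalRing.maximalIdeal A • (⊤ : Submodule A D.carrier),
      bas.repr y i ∈ IsLocalRing.maximalIdeal A := fun y hy => by
    refine Submodule.smul_induction_on hy (fun c hc z _ => ?_) fun y z hy hz => ?_
    · rw [map_smul, Finsupp.smul_apply, smul_eq_mul]; exact Ideal.mul_mem_right _ _ hc
    · rw [map_add, Finsupp.add_apply]; exact add_mem hy hz
  have h5 := h3 _ h2
  rw [bas.repr_linearCombination, Finsupp.mapRange_apply, Art.mem_maximalIdeal_iff, AlgHom.commutes] at h5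
  exact h5

theorem exists_ext_of_relations (hp : Art.IsSemismallExt p) (hd : IsDelta p P D d) {F : σ → LRing A' P}
    (hF : IsLifts p P D F)
    (h0 : ∀ (q : relKer P) (Q : σ → LRing A' P), (∀ s, red P (Q s) = (q : relMod P) s) →
      d (∑ s, Q s * F s) = 0) :
    Nonempty (Ext' p D) := by
  classical
  letI : Algebra A' D.carrier := ((algebraMap A D.carrier).comp p.toAlgHom.toRingHom).toAlgebra
  have hAB : ∀ (c : A') (b : D.carrier), c • b = p c • b := fun c b => by
    rw [Algebra.smul_def (p c) b]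
    rfl
  let I' : Ideal (LRing A' P) := Ideal.span (Set.range F)
  have hI' : I' ≤ kerD p D P := Ideal.span_le.2 (by rintro _ ⟨s, rfl⟩; exact hF.1 s)
  have hle : maxR A' P * kerD p D P ≤ maxR A' P * I' := by
    refine (Ideal.mul_mono_right (kerD_le' hd hF)).trans ?_
    rw [Ideal.mul_sup, kerR_mul_maxR hp, sup_bot_eq]
  have hrel : ∀ q : relKer P, ∃ Q : σ → LRing A' P, (∀ s, red P (Q s) = (q : relMod P) s) ∧ ∑ s, Q s * F s = 0 := by
    intro q
    choose Q hQ using fun s => red_surjective (C' := A') P ((q : relMod P) s)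
    obtain ⟨u, hu, hu'⟩ := exists_coeffs P F
      (hle (hd.eq_zero _ (hF.sum_mem_kerD Q) (hF.sum_mem_maxR hQ) (h0 q Q hQ)))
    refine ⟨fun s => Q s - u s, fun s => ?_, ?_⟩
    · have := hu s
      rw [← ker_red, RingHom.mem_ker] at this
      rw [map_sub, hQ, this, sub_zero]
    · simp only [sub_mul, Finset.sum_sub_distrib, hu', sub_self]
  haveI := free_of_flat_artinian (R := A) D.carrier
  let κ := Module.Free.ChooseBasisIndex A D.carrier
  let bas : Module.Basis κ A D.carrier := Module.Free.chooseBasis A D.carrier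
  choose e he using fun i => toD_surjective (D := D) P hp.1 (bas i)
  let Φ : (κ →₀ A') →ₗ[A'] LRing A' P := Finsupp.linearCombination A' e
  have hΦ : ∀ v, toD p D P (Φ v) = Finsupp.linearCombination A bas (v.mapRange (fun c => p c) (map_zero _)) := by
    intro v
    change toD p D P (Finsupp.linearCombination A' e v) = _
    rw [Finsupp.linearCombination_apply, Finsupp.linearCombination_apply, map_finsuppSum,
      Finsupp.sum_mapRange_index (fun i => zero_smul A (bas i))]
    refine Finsupp.sum_congr fun i _ => ?_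
    rw [Algebra.smul_def, map_mul, he, Algebra.smul_def]
    exact congrArg (· * bas i) (toD_C P _)
  let aE := algebraMap A' (LRing A' P ⧸ I')
  let f : LRing A' P ⧸ I' →+* D.carrier := Ideal.Quotient.lift I' (toD p D P) fun x hx => hI' hx
  have hfs : Function.Surjective f := fun b => by
    obtain ⟨r, rfl⟩ := toD_surjective P hp.1 b
    exact ⟨Ideal.Quotient.mk I' r, rfl⟩
  have hfa : ∀ c, f (aE c) = algebraMap A D.carrier (p c) := fun c => toD_C P c
  have hker : RingHom.ker f = (RingHom.ker p.toAlgHom).map aE := by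
    refine le_antisymm (fun x hx => ?_) (Ideal.map_le_iff_le_comap.2 fun c hc => ?_)
    · obtain ⟨r, rfl⟩ := Ideal.Quotient.mk_surjective x
      have h1 := Ideal.mem_map_of_mem (Ideal.Quotient.mk I') (kerD_le' hd hF hx)
      rw [Ideal.map_sup, Ideal.map_quotient_self, bot_sup_eq, Ideal.map_map] at h1
      exact h1
    · change f (aE c) = 0
      rw [hfa, show p c = 0 from hc, map_zero]
  let M := (Ideal.Quotient.mkₐ A' I').toLinearMap ∘ₗ Φ
  have hM : ∀ v, M v = Ideal.Quotient.mk I' (Φ v) := fun _ => rfl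
  have hMs : Function.Surjective M := by
    rw [← LinearMap.range_eq_top]
    obtain ⟨n, hn⟩ := IsArtinianRing.isNilpotent_jacobson_bot (R := A')
    rw [IsLocalRing.jacobson_eq_maximalIdeal ⊥ bot_ne_top] at hn
    refine eq_top_of_sup_smul _ _ hn (top_unique fun x _ => ?_)
    obtain ⟨r, rfl⟩ := Ideal.Quotient.mk_surjective x
    obtain ⟨v, hv⟩ := Finsupp.mapRange_surjective (fun c => p c) (map_zero _) hp.1 (bas.repr (toD p D P r))
    have h1 : Ideal.Quotient.mk I' (r - Φ v) ∈ (RingHom.ker p.toAlgHom).map aE := hker ▸ (by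
      change toD p D P (r - Φ v) = 0
      rw [map_sub, hΦ, hv, bas.linearCombination_repr, sub_self] : f (Ideal.Quotient.mk I' (r - Φ v)) = 0)
    have h2 : Ideal.Quotient.mk I' (r - Φ v) ∈ IsLocalRing.maximalIdeal A' • (⊤ : Submodule A' (LRing A' P ⧸ I')) := by
      rw [Ideal.smul_top_eq_map]
      exact Ideal.map_mono (kerP_le p) h1
    have := Submodule.add_mem_sup (LinearMap.mem_range_self M v) h2
    rwa [hM, ← map_add, add_sub_cancel] at this
  have hMi : Function.Injective M := by
    rw [← LinearMap.ker_eq_bot, Submodule.eq_bot_iff]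
    intro v hv
    replace hv : Φ v ∈ I' := Ideal.Quotient.eq_zero_iff_mem.1 hv
    have hpz : ∀ i, p (v i) = 0 := fun i => DFunLike.congr_fun
      (bas.linearIndependent (((hΦ v).symm.trans (hI' hv)).trans (map_zero _).symm)) i
    obtain ⟨u, -, hu⟩ := exists_coeffs P F (I := ⊤) (by rw [Ideal.top_mul]; exact hv)
    have hvR : Φ v ∈ kerR p P := by
      change Finsupp.linearCombination A' e v ∈ _
      rw [Finsupp.linearCombination_apply]
      refine Submodule.sum_mem _ fun i _ => ?_
      beta_reduce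
      rw [Algebra.smul_def]
      exact Ideal.mul_mem_right _ _ (Ideal.mem_map_of_mem _ (hpz i))
    have hq : jmap P (Finsupp.equivFunOnFinite.symm fun s => red P (u s)) = 0 := by
      rw [jmap_eq_sum]
      have h2 : Φ v ∈ RingHom.ker (red (C' := A') P) := ker_red (A' := A') P ▸ kerR_le_maxR hvR
      rw [RingHom.mem_ker, ← hu, map_sum] at h2
      refine Eq.trans (Finset.sum_congr rfl fun s _ => ?_) h2
      rw [map_mul, hF.2]
      rfl
    obtain ⟨Q, hQ, hQ0⟩ := hrel ⟨_, hq⟩
    have hmem : Φ v ∈ maxR A' P * kerD p D P := by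
      have e1 : Φ v = ∑ s, (u s - Q s) * F s := by
        simp only [sub_mul, Finset.sum_sub_distrib, hQ0, sub_zero, hu]
      rw [e1]
      exact Ideal.sum_mem _ fun s _ => Ideal.mul_mem_mul
        (by rw [← ker_red, RingHom.mem_ker, map_sub, hQ, sub_eq_zero]; rfl) (hF.1 s)
    have h3 : d (Φ v) = ∑ i ∈ v.support, D.q (bas i) ⊗ₜ[k] (⟨v i, hpz i⟩ : ↥(RingHom.ker p.toAlgHom)) := by
      change d (Finsupp.linearCombination A' e v) = _
      rw [Finsupp.linearCombination_apply, Finsupp.sum, map_sum]
      refine Finset.sum_congr rfl fun i _ => ?_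
      rw [Algebra.smul_def]
      change d (MvPolynomial.C (v i) * e i) = _
      rw [hd.C_mul ⟨v i, hpz i⟩, bar_eq (p := p) (D := D), he]
    rw [hd.mul_ker _ hmem] at h3
    refine Finsupp.ext fun i => ?_
    by_contra hi
    refine hi (congrArg Subtype.val (show (⟨v i, hpz i⟩ : ↥(RingHom.ker p.toAlgHom)) = 0 from ?_))
    rw [← Module.forall_dual_apply_eq_zero_iff k]
    intro φ
    have h4 := congrArg (fun z => TensorProduct.rid k B₀ (LinearMap.lTensor B₀ φ z)) h3
    simp only [map_sum, map_zero, LinearMap.lTensor_tmul, TensorProduct.rid_tmul] at h4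
    exact linearIndependent_iff'.1 (linearIndependent_q D bas) _ _ h4.symm i (Finsupp.mem_support_iff.2 hi)
  let D' : AlgDef k B₀ A' :=
    { carrier := LRing A' P ⧸ I'
      flat := Module.Flat.of_linearEquiv (LinearEquiv.ofBijective M ⟨hMi, hMs⟩).symm
      q := D.q.comp f
      q_surjective := D.q_surjective.comp hfs
      q_algebraMap := fun c => by
        change D.q (f (aE c)) = _
        rw [hfa, D.q_algebraMap, Art.res_app]
      ker_q := ker_q_comp hp aE f hfs hfa hker }
  exact ⟨⟨D', f, hfs, hker, hfa, fun b => rfl⟩⟩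

end Groth.Agent.AffDefT2
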