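import Groth.Agent.AffDefLib.Dual
import Groth.Agent.ArtFunLib.Tangent

/-! The tangent classes of deformations of an affine scheme in `T¹`, with their linearity. -/

set_option autoImplicit false
set_option backward.isDefEq.respectTransparency false
set_option backward.isDefEq.respectTransparency.types false
set_option linter.style.haveILetI false
universe u

open CategoryTheory AlgebraicGeometry TensorProduct

noncomputable section

namespace Groth.Agent.AffDefT2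

open ArtFun CotT AffDefLib

variable {k : Type u} [Field k] {B₀ : Type u} [CommRing B₀] [Algebra k B₀]
variable {ι σ : Type u} (P : Algebra.Presentation k B₀ ι σ)

local notation "𝓕" => defFunctor (Λ := k) (Spec (CommRingCat.of B₀)) (str k B₀)

/-- `φ` is the value of `D` on the kernel of the presentation. -/
def IsVal (D : AlgDef k B₀ (Art.dual k k)) (φ : P.toExtension.Cotangent →ₗ[B₀] B₀) : Prop :=
  ∃ ψ, CotTLib.IsLift P (toExt D) ψ φ

/-- `t` is the class of `u` in `T¹`. -/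
def IsClass (u : (𝓕).obj (Art.dual k k)) (t : T1 P B₀) : Prop :=
  ∃ (D : AlgDef k B₀ (Art.dual k k)) (φ : P.toExtension.Cotangent →ₗ[B₀] B₀),
    D.toDefSch.cl = u ∧ IsVal P D φ ∧ homToT1 P B₀ φ = t

variable {P}

theorem exists_rep {C : Art k k} (u : (𝓕).obj C) : ∃ D : AlgDef k B₀ C, D.toDefSch.cl = u := by
  induction u using Quotient.inductionOn with
  | h ξ =>
    obtain ⟨D, ⟨a⟩⟩ := AlgDef.exists_iso_toDefSch ξ
    exact ⟨D, Quotient.sound ⟨a⟩⟩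

theorem exists_bc {C' C : Art k k} {g : C' ⟶ C} (hg : Function.Surjective g) {D' : AlgDef k B₀ C'}
    {D : AlgDef k B₀ C} (h : (𝓕).map g D'.toDefSch.cl = D.toDefSch.cl) :
    ∃ f, AlgDef.IsBC g D' D f := by
  obtain ⟨φ⟩ := Quotient.exact h
  obtain ⟨f, hf, -⟩ := AlgDef.exists_isBC hg φ
  exact ⟨f, hf⟩

theorem exists_class (u : (𝓕).obj (Art.dual k k)) : ∃ t, IsClass P u t := by
  obtain ⟨D, hD⟩ := exists_rep u
  obtain ⟨ψ, φ, h⟩ := CotTLib.exists_isLift P (toExt D)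
  exact ⟨_, D, φ, hD, ⟨ψ, h⟩, rfl⟩

theorem class_unique {u : (𝓕).obj (Art.dual k k)} {t t' : T1 P B₀} (h : IsClass P u t)
    (h' : IsClass P u t') : t = t' := by
  obtain ⟨D, φ, hD, ⟨ψ, hψ⟩, rfl⟩ := h
  obtain ⟨D', φ', hD', ⟨ψ', hψ'⟩, rfl⟩ := h'
  obtain ⟨e⟩ := (toExt_equiv_iff D D').2 (AlgDef.nonempty_iso_iff.1 (Quotient.exact (hD.trans hD'.symm)))
  exact (hψ.map_equiv P e).homToT1_eq P hψ'

theorem class_inj {u u' : (𝓕).obj (Art.dual k k)} {t : T1 P B₀} (h : IsClass P u t)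
    (h' : IsClass P u' t) : u = u' := by
  obtain ⟨D, φ, rfl, ⟨ψ, hψ⟩, rfl⟩ := h
  obtain ⟨D', φ', rfl, ⟨ψ', hψ'⟩, he⟩ := h'
  have hmem : φ - φ' ∈ LinearMap.ker (homToT1 P B₀) := by
    rw [LinearMap.mem_ker, map_sub, he, sub_self]
  rw [CotTLib.ker_homToT1] at hmem
  obtain ⟨θ, hθ⟩ := hmem
  obtain ⟨ψ'', h'', -⟩ := CotTLib.exists_twist P (toExt D') hψ' θ
  rw [show φ' + θ ∘ₗ P.toExtension.cotangentComplex = φ from add_eq_of_eq_sub' hθ] at h''
  obtain ⟨e⟩ := hψ.nonempty_equiv P h''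
  exact Quotient.sound (AlgDef.nonempty_iso_iff.2 ((toExt_equiv_iff D D').1 ⟨e⟩))

theorem exists_of_class (t : T1 P B₀) : ∃ u, IsClass P u t := by
  obtain ⟨φ, rfl⟩ := CotTLib.homToT1_surjective P B₀ t
  obtain ⟨X, ψ, hψ⟩ := CotTLib.exists_ext_of_hom P φ
  obtain ⟨D, ⟨e⟩⟩ := exists_toExt X
  exact ⟨_, D, φ, rfl, ⟨_, hψ.map_equiv P e.symm⟩, rfl⟩

/-- The transport of the algebra map to a reduction. -/
def bcHom {g : Art.dual k k ⟶ Art.dual k k} {D' D : AlgDef k B₀ (Art.dual k k)}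
    {f : D'.carrier →+* D.carrier} (hf : AlgDef.IsBC g D' D f) : (toExt D').E →ₐ[k] (toExt D).E :=
  { toRingHom := f
    commutes' := fun c => by
      show f (algebraMap (Art.dual k k) D'.carrier (algebraMap k (Art.dual k k) c)) =
        algebraMap (Art.dual k k) D.carrier (algebraMap k (Art.dual k k) c)
      rw [hf.2.2.1, AlgHom.commutes] }

theorem scale_deps (c : k) : (Art.scale c : Art.dual k k ⟶ Art.dual k k) deps =
    algebraMap k (Art.dual k k) c * deps := by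
  show Art.tszeMap (c • LinearMap.id) (DualNumber.eps : DualNumber k) = algebraMap k (DualNumber k) c * DualNumber.eps
  refine TrivSqZeroExt.ext ?_ ?_
  · simp [Art.tszeMap]
  · simp [Art.tszeMap, TrivSqZeroExt.algebraMap_eq_inl]

theorem scale_surjective {c : k} (hc : c ≠ 0) :
    Function.Surjective (Art.scale c : Art.dual k k ⟶ Art.dual k k) := fun a =>
  ⟨((a : DualNumber k).fst, c⁻¹ * (a : DualNumber k).snd), TrivSqZeroExt.ext rfl (by
    show c * (c⁻¹ * (a : DualNumber k).snd) = _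
    rw [← mul_assoc, mul_inv_cancel₀ hc, one_mul])⟩

theorem class_smul {u : (𝓕).obj (Art.dual k k)} {t : T1 P B₀} (h : IsClass P u t) {c : k} (hc : c ≠ 0) :
    IsClass P ((𝓕).map (Art.scale c) u) (c • t) := by
  obtain ⟨D', φ', rfl, ⟨ψ', hψ'⟩, rfl⟩ := h
  obtain ⟨D, hD⟩ := exists_rep ((𝓕).map (Art.scale c) D'.toDefSch.cl)
  obtain ⟨f, hf⟩ := exists_bc (scale_surjective hc) hD.symm
  refine ⟨D, c • φ', hD, ⟨(bcHom hf).comp ψ', ⟨fun r => (hf.2.2.2 _).trans (hψ'.1 r), fun r => ?_⟩⟩,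
    LinearMap.map_smul_of_tower _ c φ'⟩
  show f (ψ' (r : P.toExtension.Ring)) = epsD D * sec D (c • φ' _)
  rw [hψ'.2 r]
  show f (epsD D' * sec D' _) = _
  rw [map_mul, show f (epsD D') = algebraMap (Art.dual k k) D.carrier (algebraMap k (Art.dual k k) c) * epsD D from
    (hf.2.2.1 _).trans ((congrArg _ (scale_deps c)).trans (map_mul _ _ _)), mul_comm _ (epsD D), mul_assoc]
  refine eps_mul_eq D ?_
  rw [map_mul, hf.2.2.2, q_sec, q_sec, D.q_algebraMap, AlgHom.commutes, Algebra.smul_def]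
  rfl

/-- `ε₁` -/
def deps₁ : Art.dual2 k k := (TrivSqZeroExt.inr (1, 0) : TrivSqZeroExt k (k × k))

/-- `ε₂` -/
def deps₂ : Art.dual2 k k := (TrivSqZeroExt.inr (0, 1) : TrivSqZeroExt k (k × k))

theorem eps_apply {g : Art.dual2 k k ⟶ Art.dual k k} (L : k × k →ₗ[k] k)
    (hg : g.toAlgHom = Art.tszeMap L) :
    g deps₁ = algebraMap k (Art.dual k k) (L (1, 0)) * deps ∧
      g deps₂ = algebraMap k (Art.dual k k) (L (0, 1)) * deps := by
  constructor <;>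
  · refine (congr($hg _)).trans ?_
    show Art.tszeMap L (TrivSqZeroExt.inr _) = algebraMap k (DualNumber k) _ * DualNumber.eps
    refine TrivSqZeroExt.ext ?_ ?_
    · simp [Art.tszeMap]
    · simp [Art.tszeMap, TrivSqZeroExt.algebraMap_eq_inl]

theorem dual2_maximalIdeal :
    IsLocalRing.maximalIdeal (Art.dual2 k k) ≤ Ideal.span {deps₁, deps₂} := fun a ha => by
  rw [Art.mem_maximalIdeal_iff] at ha
  have key : ∀ d : TrivSqZeroExt k (k × k), d.fst = 0 →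
      TrivSqZeroExt.inl d.snd.1 * TrivSqZeroExt.inr (1, 0) + TrivSqZeroExt.inl d.snd.2 * TrivSqZeroExt.inr (0, 1) = d :=
    fun d hd => by
      refine TrivSqZeroExt.ext ?_ ?_
      · simp [hd]
      · simp
  exact Ideal.mem_span_pair.2 ⟨_, _, key a ha⟩

theorem pr_surjective :
    Function.Surjective (Art.pr₁ : Art.dual2 k k ⟶ Art.dual k k) ∧
    Function.Surjective (Art.pr₂ : Art.dual2 k k ⟶ Art.dual k k) ∧
    Function.Surjective (Art.plus : Art.dual2 k k ⟶ Art.dual k k) :=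
  ⟨fun a => ⟨((a : DualNumber k).fst, ((a : DualNumber k).snd, 0)), TrivSqZeroExt.ext rfl rfl⟩,
    fun a => ⟨((a : DualNumber k).fst, (0, (a : DualNumber k).snd)), TrivSqZeroExt.ext rfl rfl⟩,
    fun a => ⟨((a : DualNumber k).fst, ((a : DualNumber k).snd, 0)), TrivSqZeroExt.ext rfl (add_zero _)⟩⟩

theorem class_add (z : (𝓕).obj (Art.dual2 k k)) {t₁ t₂ : T1 P B₀} (h₁ : IsClass P ((𝓕).map Art.pr₁ z) t₁)
    (h₂ : IsClass P ((𝓕).map Art.pr₂ z) t₂) : IsClass P ((𝓕).map Art.plus z) (t₁ + t₂) := by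
  obtain ⟨E, rfl⟩ := exists_rep z
  obtain ⟨D₁, φ₁, hD₁, ⟨ψ₁, hψ₁⟩, rfl⟩ := h₁
  obtain ⟨D₂, φ₂, hD₂, ⟨ψ₂, hψ₂⟩, rfl⟩ := h₂
  obtain ⟨D₃, hD₃⟩ := exists_rep ((𝓕).map Art.plus E.toDefSch.cl)
  obtain ⟨hs₁, hs₂, hs₃⟩ := pr_surjective (k := k)
  obtain ⟨f₁, hf₁⟩ := exists_bc hs₁ hD₁.symm
  obtain ⟨f₂, hf₂⟩ := exists_bc hs₂ hD₂.symm
  obtain ⟨f₃, hf₃⟩ := exists_bc hs₃ hD₃.symm
  let e₁ := algebraMap (Art.dual2 k k) E.carrier deps₁
  let e₂ := algebraMap (Art.dual2 k k) E.carrier deps₂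
  have he : ∀ {D : AlgDef k B₀ (Art.dual k k)} {g : Art.dual2 k k ⟶ Art.dual k k} {f : E.carrier →+* D.carrier}
      (_ : AlgDef.IsBC g E D f) (L : k × k →ₗ[k] k) (_ : g.toAlgHom = Art.tszeMap L),
      f e₁ = algebraMap (Art.dual k k) D.carrier (algebraMap k (Art.dual k k) (L (1, 0))) * epsD D ∧
        f e₂ = algebraMap (Art.dual k k) D.carrier (algebraMap k (Art.dual k k) (L (0, 1))) * epsD D := fun hf L hg =>
    ⟨(hf.2.2.1 _).trans ((congrArg _ (eps_apply L hg).1).trans (map_mul _ _ _)),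
      (hf.2.2.1 _).trans ((congrArg _ (eps_apply L hg).2).trans (map_mul _ _ _))⟩
  obtain ⟨a₁₁, a₁₂⟩ := he hf₁ _ rfl
  obtain ⟨a₂₁, a₂₂⟩ := he hf₂ _ rfl
  obtain ⟨a₃₁, a₃₂⟩ := he hf₃ _ rfl
  simp only [LinearMap.fst_apply, LinearMap.snd_apply, LinearMap.add_apply, map_one, map_zero, one_mul, zero_mul,
    add_zero, zero_add] at a₁₁ a₁₂ a₂₁ a₂₂ a₃₁ a₃₂
  have hpair : ∀ i, ∃ x : E.carrier, f₁ x = ψ₁ (CotTLib.var P i) ∧ f₂ x = ψ₂ (CotTLib.var P i) := fun i => by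
    obtain ⟨x₀, hx₀⟩ := hf₁.1 (ψ₁ (CotTLib.var P i))
    obtain ⟨w, hw⟩ := (q_eq_zero_iff D₂ ((show D₂.carrier from ψ₂ (CotTLib.var P i)) - f₂ x₀)).1 (by
      rw [map_sub, hf₂.2.2.2, ← hf₁.2.2.2, hx₀]
      exact sub_eq_zero.2 ((hψ₂.1 _).trans (hψ₁.1 _).symm))
    obtain ⟨w', rfl⟩ := hf₂.1 w
    refine ⟨x₀ + e₂ * w', ?_, ?_⟩
    · rw [map_add, map_mul, a₁₂, zero_mul, add_zero, hx₀]
    · rw [map_add, map_mul, a₂₂, ← hw, add_sub_cancel]
  choose x hx₁ hx₂ using hpair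
  letI : Algebra k E.carrier := ((algebraMap (Art.dual2 k k) E.carrier).comp (algebraMap k (Art.dual2 k k))).toAlgebra
  let ψ : P.toExtension.Ring →ₐ[k] E.carrier := (MvPolynomial.aeval x : MvPolynomial ι k →ₐ[k] E.carrier)
  have hψX : ∀ i, ψ (CotTLib.var P i) = x i := fun i => MvPolynomial.aeval_X _ i
  let bc : ∀ {D : AlgDef k B₀ (Art.dual k k)} {g : Art.dual2 k k ⟶ Art.dual k k} {f : E.carrier →+* D.carrier}
      (_ : AlgDef.IsBC g E D f), E.carrier →ₐ[k] (toExt D).E := fun {D g f} hf =>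
    { toRingHom := f
      commutes' := fun c => by
        show f (algebraMap (Art.dual2 k k) E.carrier (algebraMap k (Art.dual2 k k) c)) =
          algebraMap (Art.dual k k) D.carrier (algebraMap k (Art.dual k k) c)
        rw [hf.2.2.1, AlgHom.commutes] }
  have hb₁ : ∀ r, f₁ (ψ r) = ψ₁ r := AlgHom.congr_fun (CotTLib.algHom_ext_var P
    (f := (bc hf₁).comp ψ) (g := ψ₁) fun i => (congrArg f₁ (hψX i)).trans (hx₁ i))
  have hb₂ : ∀ r, f₂ (ψ r) = ψ₂ r := AlgHom.congr_fun (CotTLib.algHom_ext_var P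
    (f := (bc hf₂).comp ψ) (g := ψ₂) fun i => (congrArg f₂ (hψX i)).trans (hx₂ i))
  have hq : ∀ r, E.q (ψ r) = algebraMap P.toExtension.Ring B₀ r := fun r => by
    rw [← hf₁.2.2.2, hb₁]
    exact hψ₁.1 r
  refine ⟨D₃, φ₁ + φ₂, hD₃, ⟨(bc hf₃).comp ψ, ⟨fun r => (hf₃.2.2.2 _).trans (hq r), fun r => ?_⟩⟩, map_add _ _ _⟩
  have hr : E.q (ψ (r : P.toExtension.Ring)) = 0 := (hq _).trans r.2
  rw [← RingHom.mem_ker, E.ker_q] at hr
  have hr' := Ideal.map_mono dual2_maximalIdeal hr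
  rw [Ideal.map_span, Set.image_pair, Ideal.mem_span_pair] at hr'
  obtain ⟨y₁, y₂, hy⟩ := hr'
  have k₁ : E.q y₁ = φ₁ (Algebra.Extension.Cotangent.mk r) := by
    have h := (hb₁ (r : P.toExtension.Ring)).trans (hψ₁.2 r)
    rw [← hy, map_add, map_mul, map_mul, a₁₁, a₁₂, mul_zero, add_zero, mul_comm] at h
    replace h : epsD D₁ * f₁ y₁ = epsD D₁ * sec D₁ (φ₁ (Algebra.Extension.Cotangent.mk r)) := h
    rw [← sub_eq_zero, ← mul_sub, eps_mul_eq_zero_iff, map_sub, sub_eq_zero, hf₁.2.2.2, q_sec] at h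
    exact h
  have k₂ : E.q y₂ = φ₂ (Algebra.Extension.Cotangent.mk r) := by
    have h := (hb₂ (r : P.toExtension.Ring)).trans (hψ₂.2 r)
    rw [← hy, map_add, map_mul, map_mul, a₂₁, a₂₂, mul_zero, zero_add, mul_comm] at h
    replace h : epsD D₂ * f₂ y₂ = epsD D₂ * sec D₂ (φ₂ (Algebra.Extension.Cotangent.mk r)) := h
    rw [← sub_eq_zero, ← mul_sub, eps_mul_eq_zero_iff, map_sub, sub_eq_zero, hf₂.2.2.2, q_sec] at h
    exact h
  show f₃ (ψ (r : P.toExtension.Ring)) = epsD D₃ * sec D₃ _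
  rw [← hy, map_add, map_mul, map_mul, a₃₁, a₃₂, ← add_mul, mul_comm]
  refine eps_mul_eq D₃ ?_
  rw [map_add, hf₃.2.2.2, hf₃.2.2.2, k₁, k₂, q_sec, LinearMap.add_apply]

theorem class_smul' {u : (𝓕).obj (Art.dual k k)} {t : T1 P B₀} (h : IsClass P u t) (c : k) :
    IsClass P ((𝓕).map (Art.scale c) u) (c • t) := by
  rcases eq_or_ne c 0 with rfl | hc
  · let j : Art.dual k k ⟶ Art.dual2 k k :=
      ⟨Art.tszeMap (LinearMap.inl k k k), AlgHom.ext fun _ => rfl⟩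
    have e₁ : j ≫ Art.pr₁ = 𝟙 _ := Art.Hom.ext (AlgHom.ext fun a => TrivSqZeroExt.ext rfl rfl)
    have e₂ : j ≫ Art.pr₂ = Art.scale 0 := Art.Hom.ext (AlgHom.ext fun a =>
      TrivSqZeroExt.ext rfl (zero_mul (a : DualNumber k).snd).symm)
    have e₃ : j ≫ Art.plus = 𝟙 _ := Art.Hom.ext (AlgHom.ext fun a =>
      TrivSqZeroExt.ext rfl (add_zero (a : DualNumber k).snd))
    obtain ⟨t₀, h₀⟩ := exists_class (P := P) ((𝓕).map (Art.scale 0) u)
    have hc : ∀ g : Art.dual2 k k ⟶ Art.dual k k, (𝓕).map g ((𝓕).map j u) = (𝓕).map (j ≫ g) u := fun g => by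
      rw [CategoryTheory.Functor.map_comp]; rfl
    have h3 := class_add ((𝓕).map j u) (t₁ := t) (t₂ := t₀)
      (by rw [hc, e₁, CategoryTheory.Functor.map_id]; exact h) (by rw [hc, e₂]; exact h₀)
    rw [hc, e₃, CategoryTheory.Functor.map_id] at h3
    have h4 : t = t + t₀ := class_unique h h3
    rw [zero_smul, ← left_eq_add.1 h4]
    exact h₀
  · exact class_smul h hc

end Groth.Agent.AffDefT2
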