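import Groth.Agent.AffDefT2.Lift
import Groth.Agent.AffDefT2.Tangent
import Groth.Prelude.Def_ArtFun3

/-! `T²` is an obstruction space for the deformations of an affine scheme. -/

set_option autoImplicit false
set_option backward.isDefEq.respectTransparency false
set_option backward.isDefEq.respectTransparency.types false
set_option linter.style.haveILetI false
set_option maxHeartbeats 1000000
set_option synthInstance.maxHeartbeats 100000
universe u

open CategoryTheory AlgebraicGeometry TensorProduct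

noncomputable section

namespace Groth.Agent.AffDefT2

open ArtFun CotT AffDefLib

variable {k : Type u} [Field k] {B₀ : Type u} [CommRing B₀] [Algebra k B₀]
variable {ι σ : Type u} [Fintype σ] (P : Algebra.Presentation k B₀ ι σ)

section One

variable {P} {A A' : Art k k} {p : A' ⟶ A} {D : AlgDef k B₀ A}

omit [Fintype σ] in
theorem delta_eq {d d' : LRing A' P →+ Mod B₀ p} (hd : IsDelta p P D d) (hd' : IsDelta p P D d')
    {x : LRing A' P} (hx : x ∈ kerD p D P) (hx' : x ∈ maxR A' P) : d x = d' x := by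
  obtain ⟨y, hy, z, hz, rfl⟩ := Submodule.mem_sup.1 (hd.decomp x hx hx')
  rw [map_add, map_add, hd.mul_ker y hy, hd'.mul_ker y hy, zero_add, zero_add]
  refine kerR_induction (p := p) (motive := fun z => d z = d' z) ?_ ?_ ?_ hz
  · rw [map_zero, map_zero]
  · intro a b ha hb
    rw [map_add, map_add, ha, hb]
  · intro j g
    rw [hd.C_mul, hd'.C_mul]

/-- `t` is the obstruction class of `D` along `p`. -/
def IsObsClass (hp : Art.IsSemismallExt p) (D : AlgDef k B₀ A)
    (t : T2 P B₀ ⊗[k] ↥(RingHom.ker p.toAlgHom)) : Prop :=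
  ∃ d F δ, IsDelta p P D d ∧ IsLifts p P D F ∧ IsObsHom d F δ ∧ cls hp δ = t

theorem exists_obsClass (hp : Art.IsSemismallExt p) : ∃ t, IsObsClass (P := P) hp D t := by
  obtain ⟨d, hd⟩ := exists_isDelta P D hp
  obtain ⟨F, hF⟩ := exists_lifts (P := P) (D := D) hp
  obtain ⟨δ, hδ⟩ := exists_obsHom hd hF
  exact ⟨_, d, F, δ, hd, hF, hδ, rfl⟩

theorem obsClass_unique (hp : Art.IsSemismallExt p) {t t' : T2 P B₀ ⊗[k] ↥(RingHom.ker p.toAlgHom)}
    (h : IsObsClass hp D t) (h' : IsObsClass hp D t') : t = t' := by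
  obtain ⟨d, F, δ, hd, hF, hδ, rfl⟩ := h
  obtain ⟨d', F', δ', hd', hF', hδ', rfl⟩ := h'
  have hh : ∀ s, F s - F' s ∈ kerD p D P := fun s => sub_mem (hF.1 s) (hF'.1 s)
  have hh' : ∀ s, F s - F' s ∈ maxR A' P := fun s => by
    rw [← ker_red, RingHom.mem_ker, map_sub, hF.2, hF'.2, sub_self]
  have h1 := obsHom_sub hd hh hh' hδ (ψ := (L1basis P).constr B₀ fun s => d (F s - F' s))
    (fun s => Module.Basis.constr_basis _ _ _ s)
  have h2 : IsObsHom d F' δ' := fun q Q hQ => (hδ' q Q hQ).trans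
    (delta_eq hd' hd (hF'.sum_mem_kerD Q) (hF'.sum_mem_maxR hQ))
  rw [show (fun s => F s - (F s - F' s)) = F' from funext fun s => sub_sub_cancel _ _] at h1
  rw [← obsHom_unique h1 h2, cls_sub]

theorem obsClass_eq_zero_iff (hp : Art.IsSemismallExt p) {t : T2 P B₀ ⊗[k] ↥(RingHom.ker p.toAlgHom)}
    (h : IsObsClass hp D t) : t = 0 ↔ Nonempty (Ext' p D) := by
  obtain ⟨d, F, δ, hd, hF, hδ, rfl⟩ := h
  rw [cls_eq_zero_iff]
  refine ⟨?_, fun ⟨X⟩ => exists_coboundary_of_ext hp hd X hF hδ⟩
  rintro ⟨ψ, hψ⟩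
  choose g hg hgd using fun s => hd.exists_kerR (ψ (L1basis P s))
  have h1 := obsHom_sub hd (fun s => kerR_le_kerD (hg s)) (fun s => kerR_le_maxR (hg s)) hδ (ψ := ψ)
    (fun s => (hgd s).symm)
  have hF' : IsLifts p P D fun s => F s - g s := by
    refine ⟨fun s => sub_mem (hF.1 s) (kerR_le_kerD (D := D) (hg s)), fun s => ?_⟩
    have h3 : red P (g s) = 0 := by
      rw [← RingHom.mem_ker, ker_red]
      exact kerR_le_maxR (hg s)
    rw [map_sub, hF.2, h3, sub_zero]
  refine exists_ext_of_relations hp hd hF' fun q Q hQ => ?_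
  rw [← h1 q Q hQ, hψ, LinearMap.sub_apply, sub_self]

end One

section Quot

variable {A A' : Art k k} {p : A' ⟶ A} {D : AlgDef k B₀ A} {K : Ideal A'}
  (hK : K ≤ IsLocalRing.maximalIdeal A') (hKJ : K ≤ RingHom.ker p.toAlgHom)

omit [Fintype σ] in
/-- the map on lifted polynomial rings -/
abbrev quotR : LRing A' P →+* LRing (Art.quot A' K hK) P :=
  MvPolynomial.map (Art.quotMk A' K hK).toAlgHom.toRingHom

omit [Fintype σ] in
theorem red_quotR (x : LRing A' P) : red P (quotR P hK x) = red P x := by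
  change MvPolynomial.map _ (MvPolynomial.map _ x) = MvPolynomial.map _ x
  rw [MvPolynomial.map_map]
  exact congrArg (fun φ => MvPolynomial.map φ x) (RingHom.ext fun c => Art.res_app (Art.quotMk A' K hK) c)

omit [Fintype σ] in
theorem toD_quotR (x : LRing A' P) :
    toD (Art.quotFactor hK p hKJ) D P (quotR P hK x) = toD p D P x := by
  refine RingHom.congr_fun (show (toD (Art.quotFactor hK p hKJ) D P).comp (quotR P hK) = toD p D P from
    MvPolynomial.ringHom_ext (fun c => ?_) fun i => ?_) x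
  · rw [RingHom.comp_apply, MvPolynomial.map_C, toD_C, toD_C]
    rfl
  · rw [RingHom.comp_apply, MvPolynomial.map_X, toD, toD, MvPolynomial.eval₂Hom_X', MvPolynomial.eval₂Hom_X']

omit [Fintype σ] in
theorem delta_quotR {d : LRing A' P →+ Mod B₀ p} (hd : IsDelta p P D d)
    {d' : LRing (Art.quot A' K hK) P →+ Mod B₀ (Art.quotFactor hK p hKJ)}
    (hd' : IsDelta (Art.quotFactor hK p hKJ) P D d') {x : LRing A' P} (hx : x ∈ kerD p D P)
    (hx' : x ∈ maxR A' P) :
    d' (quotR P hK x) = TensorProduct.AlgebraTensorModule.map (LinearMap.id : B₀ →ₗ[B₀] B₀)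
      ((Art.kerToQuot hK p hKJ).restrictScalars k) (d x) := by
  obtain ⟨y, hy, z, hz, rfl⟩ := Submodule.mem_sup.1 (hd.decomp x hx hx')
  have hy' : quotR P hK y ∈ maxR (Art.quot A' K hK) P * kerD (Art.quotFactor hK p hKJ) D P := by
    clear hx hx'
    induction hy using Submodule.mul_induction_on' with
    | mem_mul_mem a ha b hb =>
      rw [map_mul]
      refine Ideal.mul_mem_mul ?_ ((toD_quotR P hK hKJ b).trans hb)
      rw [← ker_red, RingHom.mem_ker] at ha ⊢
      rw [red_quotR, ha]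
    | add a _ b _ ha hb => rw [map_add]; exact add_mem ha hb
  rw [map_add, map_add, map_add, hd.mul_ker y hy, hd'.mul_ker _ hy', zero_add, map_add, map_zero, zero_add]
  refine kerR_induction (p := p) (motive := fun z => d' (quotR P hK z) =
    TensorProduct.AlgebraTensorModule.map (LinearMap.id : B₀ →ₗ[B₀] B₀)
      ((Art.kerToQuot hK p hKJ).restrictScalars k) (d z)) ?_ ?_ ?_ hz
  · rw [map_zero, map_zero, map_zero, map_zero]
  · intro a b ha hb
    rw [map_add, map_add, map_add, map_add, ha, hb]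
  · intro j g
    rw [hd.C_mul, TensorProduct.AlgebraTensorModule.map_tmul, map_mul, MvPolynomial.map_C,
      show (Art.quotMk A' K hK).toAlgHom.toRingHom (j : A') =
        (((Art.kerToQuot hK p hKJ).restrictScalars k j : ↥(RingHom.ker (Art.quotFactor hK p hKJ).toAlgHom)) :
          Art.quot A' K hK) from rfl,
      hd'.C_mul, RingHom.comp_apply, red_quotR]
    rfl

omit [Fintype σ] in
theorem rid_lTensor (V : Type u) [AddCommGroup V] [Module k V] {M N : Type u} [AddCommGroup M] [Module k M]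
    [AddCommGroup N] [Module k N] (l : N →ₗ[k] k) (χ : M →ₗ[k] N) (t : V ⊗[k] M) :
    TensorProduct.rid k V (LinearMap.lTensor V l (LinearMap.lTensor V χ t)) =
      TensorProduct.rid k V (LinearMap.lTensor V (l ∘ₗ χ) t) := by
  rw [LinearMap.lTensor_comp_apply]

omit [Fintype σ] in
theorem pair_quot (l : ↥(RingHom.ker (Art.quotFactor hK p hKJ).toAlgHom) →ₗ[k] k)
    (t : T2 P B₀ ⊗[k] ↥(RingHom.ker p.toAlgHom)) :
    pair P l (LinearMap.lTensor (T2 P B₀) ((Art.kerToQuot hK p hKJ).restrictScalars k) t) =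
      pair P (l ∘ₗ (Art.kerToQuot hK p hKJ).restrictScalars k) t :=
  rid_lTensor (T2 P B₀) l _ t

theorem obsClass_quot (hp : Art.IsSemismallExt p) (hq : Art.IsSemismallExt (Art.quotFactor hK p hKJ))
    {t : T2 P B₀ ⊗[k] ↥(RingHom.ker p.toAlgHom)} (h : IsObsClass hp D t) :
    IsObsClass hq D (LinearMap.lTensor (T2 P B₀) ((Art.kerToQuot hK p hKJ).restrictScalars k) t) := by
  obtain ⟨d, F, δ, hd, hF, hδ, rfl⟩ := h
  obtain ⟨d', hd'⟩ := exists_isDelta P D hq
  let χ := (Art.kerToQuot hK p hKJ).restrictScalars k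
  let χB : Mod B₀ p →ₗ[B₀] Mod B₀ (Art.quotFactor hK p hKJ) :=
    TensorProduct.AlgebraTensorModule.map (LinearMap.id : B₀ →ₗ[B₀] B₀) χ
  refine ⟨d', fun s => quotR P hK (F s), χB ∘ₗ δ, hd', ⟨fun s => (toD_quotR P hK hKJ _).trans (hF.1 s),
    fun s => (red_quotR P hK _).trans (hF.2 s)⟩, ?_, ?_⟩
  · intro q Q hQ
    choose Q₀ hQ₀ using fun s => MvPolynomial.map_surjective (σ := ι) (Art.quotMk A' K hK).toAlgHom.toRingHom
      (Art.quotMk_surjective A' K hK) (Q s)
    have hred : ∀ s, red P (Q₀ s) = (q : relMod P) s := fun s => by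
      rw [← red_quotR P hK, ← hQ s]
      exact congrArg (red P) (hQ₀ s)
    rw [LinearMap.comp_apply, hδ q Q₀ hred,
      ← delta_quotR P hK hKJ hd hd' (hF.sum_mem_kerD Q₀) (hF.sum_mem_maxR hred), map_sum]
    exact congrArg d' (Finset.sum_congr rfl fun s _ => by rw [map_mul]; exact congrArg (· * _) (hQ₀ s))
  · refine ext_pair hq fun l => ?_
    rw [pair_cls]
    have e1 := pair_quot P hK hKJ
    refine Eq.trans ?_ (e1 l (cls hp δ)).symm
    rw [pair_cls]
    refine congrArg (toT2 P B₀) ?_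
    rw [← LinearMap.comp_assoc]
    congr 1
    refine TensorProduct.AlgebraTensorModule.ext fun b j => ?_
    rw [LinearMap.comp_apply, TensorProduct.AlgebraTensorModule.map_tmul, ev_tmul, ev_tmul]
    rfl

end Quot

/-- `T²` is an obstruction space for the deformations of `Spec B₀`. -/
theorem hasObsTheory :
    HasObsTheory (defFunctor (Λ := k) (Spec (CommRingCat.of B₀)) (str k B₀)) (T2 P B₀) := by
  choose rep hrep using fun {C : Art k k} => exists_rep (k := k) (B₀ := B₀) (C := C)
  exact ⟨{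
    obs := fun {C' C} p hp u => (exists_obsClass (P := P) (D := rep u) hp).choose
    obs_eq_zero_iff := fun {C' C} p hp u => by
      rw [obsClass_eq_zero_iff hp (exists_obsClass (P := P) (D := rep u) hp).choose_spec]
      constructor
      · rintro ⟨X⟩
        exact ⟨X.D'.toDefSch.cl, (show _ = (rep u).toDefSch.cl from Quotient.sound ⟨X.isBC.iso hp.1⟩).trans (hrep u)⟩
      · rintro ⟨u', hu'⟩
        obtain ⟨D', hD'⟩ := exists_rep u'
        obtain ⟨f, hf⟩ := exists_bc hp.1 (D' := D') (D := rep u) (by rw [hD', hu', hrep])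
        exact ⟨⟨D', f, hf⟩⟩
    obs_quot := fun {C' C} p hp K hK hKJ hq u =>
      obsClass_unique hq (exists_obsClass (P := P) (D := rep u) hq).choose_spec
        (obsClass_quot P hK hKJ hp hq (exists_obsClass (P := P) (D := rep u) hp).choose_spec) }⟩

end Groth.Agent.AffDefT2
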